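import Mathlib

/-! Universal closedness of a quasi-compact morphism is tested on affine spaces over the base. -/

set_option autoImplicit false

namespace Groth.Agent.UCLib

open AlgebraicGeometry CategoryTheory CategoryTheory.Limits TensorProduct

universe u

/-- The algebraic heart: finitely many elements of `B` witness that no point of `V(J)` lies over
`p`. -/
theorem exists_finset {A B C : Type u} [CommRing A] [CommRing B] [CommRing C] [Algebra A B]
    [Algebra A C] (J : Ideal (C ⊗[A] B)) (p : Ideal B) [p.IsPrime]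
    (hJ : ∀ Q : Ideal (C ⊗[A] B), Q.IsPrime → J ≤ Q →
      Q.comap (Algebra.TensorProduct.includeRight : B →ₐ[A] C ⊗[A] B) ≠ p) :
    ∃ F : Finset B, ∀ (A' : Type u) [CommRing A'] [Algebra A A'] (α : A' →ₐ[A] B),
      (↑F : Set B) ⊆ Set.range α → ∀ Q : Ideal (C ⊗[A] A'), Q.IsPrime →
        J.comap (Algebra.TensorProduct.map (AlgHom.id A C) α).toRingHom ≤ Q →
        Q.comap (Algebra.TensorProduct.includeRight : A' →ₐ[A] C ⊗[A] A') ≠ p.comap α := by
  classical
  let ι : B →ₐ[A] C ⊗[A] B := Algebra.TensorProduct.includeRight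
  obtain ⟨s, hs, hsp⟩ : ∃ s, s ∈ (J ⊔ p.map ι).comap ι ∧ s ∉ p := by
    apply SetLike.not_le_iff_exists.mp
    intro hle
    obtain ⟨Q, hQ, hQp, hQc⟩ := Ideal.exists_ideal_comap_le_prime p _ hle
    exact hJ Q hQp (le_sup_left.trans hQ)
      (le_antisymm hQc (Ideal.map_le_iff_le_comap.mp (le_sup_right.trans hQ)))
  obtain ⟨j, hj, x, hx, hjx⟩ := Submodule.mem_sup.mp hs
  have hr : ∀ r : C ⊗[A] B, ∃ F : Finset B, ∀ (A' : Type u) [CommRing A'] [Algebra A A']
      (α : A' →ₐ[A] B), (↑F : Set B) ⊆ Set.range α →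
      ∃ r', Algebra.TensorProduct.map (AlgHom.id A C) α r' = r := by
    intro r
    induction r using TensorProduct.induction_on with
    | zero => exact ⟨∅, fun A' _ _ α _ ↦ ⟨0, map_zero _⟩⟩
    | tmul c b =>
      refine ⟨{b}, fun A' _ _ α hF ↦ ?_⟩
      obtain ⟨b', rfl⟩ := hF (Finset.mem_coe.mpr (Finset.mem_singleton_self b))
      exact ⟨c ⊗ₜ b', by simp⟩
    | add r r' hr hr' =>
      obtain ⟨F, hF⟩ := hr
      obtain ⟨F', hF'⟩ := hr'
      refine ⟨F ∪ F', fun A' _ _ α h ↦ ?_⟩
      rw [Finset.coe_union, Set.union_subset_iff] at h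
      obtain ⟨a, rfl⟩ := hF A' α h.1
      obtain ⟨a', rfl⟩ := hF' A' α h.2
      exact ⟨a + a', map_add _ _ _⟩
  have hxl : ∀ x ∈ p.map ι, ∃ F : Finset B, ∀ (A' : Type u) [CommRing A'] [Algebra A A']
      (α : A' →ₐ[A] B), (↑F : Set B) ⊆ Set.range α →
      ∃ x' ∈ (p.comap α).map (Algebra.TensorProduct.includeRight : A' →ₐ[A] C ⊗[A] A'),
        Algebra.TensorProduct.map (AlgHom.id A C) α x' = x := by
    intro x hx
    induction hx using Submodule.span_induction with
    | mem y hy =>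
      obtain ⟨b, hb, rfl⟩ := hy
      refine ⟨{b}, fun A' _ _ α hF ↦ ?_⟩
      obtain ⟨b', rfl⟩ := hF (Finset.mem_coe.mpr (Finset.mem_singleton_self b))
      exact ⟨_, Ideal.mem_map_of_mem _ hb, by simp [ι]⟩
    | zero => exact ⟨∅, fun A' _ _ α _ ↦ ⟨0, zero_mem _, map_zero _⟩⟩
    | add y z _ _ hy hz =>
      obtain ⟨F, hF⟩ := hy
      obtain ⟨F', hF'⟩ := hz
      refine ⟨F ∪ F', fun A' _ _ α h ↦ ?_⟩
      rw [Finset.coe_union, Set.union_subset_iff] at h
      obtain ⟨a, ha, rfl⟩ := hF A' α h.1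
      obtain ⟨a', ha', rfl⟩ := hF' A' α h.2
      exact ⟨a + a', add_mem ha ha', map_add _ _ _⟩
    | smul r y _ hy =>
      obtain ⟨F, hF⟩ := hy
      obtain ⟨F', hF'⟩ := hr r
      refine ⟨F ∪ F', fun A' _ _ α h ↦ ?_⟩
      rw [Finset.coe_union, Set.union_subset_iff] at h
      obtain ⟨a, ha, rfl⟩ := hF A' α h.1
      obtain ⟨r', rfl⟩ := hF' A' α h.2
      exact ⟨r' * a, Ideal.mul_mem_left _ _ ha, map_mul _ _ _⟩
  obtain ⟨F, hF⟩ := hxl x hx
  refine ⟨insert s F, fun A' _ _ α h Q hQ hle hc ↦ ?_⟩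
  rw [Finset.coe_insert, Set.insert_subset_iff] at h
  obtain ⟨s', rfl⟩ := h.1
  obtain ⟨x', hx', hxx'⟩ := hF A' α h.2
  have hxQ : x' ∈ Q := (Ideal.map_le_iff_le_comap.mpr hc.ge) hx'
  have hdiff : (Algebra.TensorProduct.includeRight : A' →ₐ[A] C ⊗[A] A') s' - x' ∈ Q := by
    refine hle (Ideal.mem_comap.mpr ?_)
    show Algebra.TensorProduct.map (AlgHom.id A C) α _ ∈ J
    rw [map_sub, hxx']
    have : Algebra.TensorProduct.map (AlgHom.id A C) α
        ((Algebra.TensorProduct.includeRight : A' →ₐ[A] C ⊗[A] A') s') = ι (α s') := by simp [ι]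
    rw [this, ← hjx, add_sub_cancel_right]
    exact hj
  have : s' ∈ p.comap α := hc ▸ Ideal.mem_comap.mpr (by simpa using add_mem hdiff hxQ)
  exact hsp this

/-- Base change of a closed map along an open immersion. -/
theorem isClosedMap_of_isPullback {P Q X Y : Scheme.{u}} {a : P ⟶ X} {f' : P ⟶ Q} {f : X ⟶ Y}
    {b : Q ⟶ Y} (h : IsPullback a f' f b) [IsOpenImmersion b] (hf : IsClosedMap f) :
    IsClosedMap f' := by
  have ha : IsOpenImmersion a := by
    have := h.isoPullback_hom_fst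
    rw [← this]
    infer_instance
  have hrange : Set.range a = f ⁻¹' Set.range b := by
    rw [← h.isoPullback_hom_fst, ← Scheme.Pullback.range_fst]
    rw [Scheme.Hom.comp_base, TopCat.coe_comp, Set.range_comp,
      Set.range_eq_univ.mpr h.isoPullback.hom.surjective, Set.image_univ]
  intro Z hZ
  have : f' '' Z = b ⁻¹' (f '' closure (a '' Z)) := by
    ext q
    constructor
    · rintro ⟨z, hz, rfl⟩
      refine ⟨a z, subset_closure ⟨z, hz, rfl⟩, ?_⟩
      rw [← Scheme.Hom.comp_apply, ← Scheme.Hom.comp_apply, h.w]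
    · rintro ⟨x, hx, hxq⟩
      obtain ⟨z, rfl⟩ : x ∈ Set.range a := by rw [hrange]; exact ⟨q, hxq.symm⟩
      refine ⟨z, ?_, b.isOpenEmbedding.injective ?_⟩
      · have : z ∈ a ⁻¹' closure (a '' Z) := hx
        rwa [← a.isOpenEmbedding.isEmbedding.closure_eq_preimage_closure_image,
          hZ.closure_eq] at this
      · rw [← hxq, ← Scheme.Hom.comp_apply, ← Scheme.Hom.comp_apply, h.w]
  rw [this]
  exact (hf _ isClosed_closure).preimage b.continuous

section Affine

variable {A : Type u} [CommRing A] {X : Scheme.{u}} (f : X ⟶ Spec (.of A))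

/-- The structure morphism to the base of an `A`-algebra. -/
noncomputable abbrev str (B : Type u) [CommRing B] [Algebra A B] :
    Spec (.of B) ⟶ Spec (.of A) :=
  Spec.map (CommRingCat.ofHom (algebraMap A B))

variable {C : Type u} [CommRing C] [Algebra A C] (e : Spec (.of C) ⟶ X) (he : e ≫ f = str C)

/-- A chart of the base change. -/
noncomputable def chart (B : Type u) [CommRing B] [Algebra A B] :
    Spec (.of (C ⊗[A] B)) ⟶ pullback f (str B) :=
  (pullbackSpecIso A C B).inv ≫ pullback.map _ _ f (str B) e (𝟙 _) (𝟙 _)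
    (by rw [Category.comp_id]; exact he.symm) (by simp)

instance chart_isOpenImmersion [IsOpenImmersion e] (B : Type u) [CommRing B] [Algebra A B] :
    IsOpenImmersion (chart f e he B) := by
  unfold chart
  infer_instance

@[reassoc]
theorem chart_snd (B : Type u) [CommRing B] [Algebra A B] :
    chart f e he B ≫ pullback.snd f (str B) =
      Spec.map (CommRingCat.ofHom
        (Algebra.TensorProduct.includeRight : B →ₐ[A] C ⊗[A] B).toRingHom) := by
  simp only [chart, pullback.map, Category.assoc, Category.comp_id]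
  erw [pullback.lift_snd]
  exact pullbackSpecIso_inv_snd A C B

theorem chart_fst (B : Type u) [CommRing B] [Algebra A B] :
    chart f e he B ≫ pullback.fst f (str B) =
      Spec.map (CommRingCat.ofHom Algebra.TensorProduct.includeLeftRingHom) ≫ e := by
  simp only [chart, pullback.map, Category.assoc, Category.comp_id]
  erw [pullback.lift_fst, ← Category.assoc, pullbackSpecIso_inv_fst]

theorem range_chart (B : Type u) [CommRing B] [Algebra A B] :
    Set.range (chart f e he B) = pullback.fst f (str B) ⁻¹' Set.range e := by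
  rw [chart, Scheme.Hom.comp_base, TopCat.coe_comp, Set.range_comp,
    Set.range_eq_univ.mpr (pullbackSpecIso A C B).inv.surjective, Set.image_univ,
    Scheme.Pullback.range_map]
  simp

/-- The map of base changes. -/
noncomputable def bcMap {A' B : Type u} [CommRing A'] [CommRing B] [Algebra A A'] [Algebra A B]
    (α : A' →ₐ[A] B) : pullback f (str B) ⟶ pullback f (str A') :=
  pullback.map _ _ _ _ (𝟙 X) (Spec.map (CommRingCat.ofHom α.toRingHom)) (𝟙 _) (by simp)
    (by rw [Category.comp_id, ← Spec.map_comp, ← CommRingCat.ofHom_comp, AlgHom.toRingHom_eq_coe,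
      AlgHom.comp_algebraMap])

theorem chart_bcMap {A' B : Type u} [CommRing A'] [CommRing B] [Algebra A A'] [Algebra A B]
    (α : A' →ₐ[A] B) : chart f e he B ≫ bcMap f α =
      Spec.map (CommRingCat.ofHom (Algebra.TensorProduct.map (AlgHom.id A C) α).toRingHom) ≫
        chart f e he A' := by
  apply pullback.hom_ext
  · simp only [bcMap, Category.assoc, pullback.lift_fst, Category.comp_id, chart_fst,
      ← Spec.map_comp_assoc]
    congr 2
    ext c
    simp
  · simp only [bcMap, Category.assoc, pullback.lift_snd, chart_snd_assoc, chart_snd,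
      ← Spec.map_comp]
    congr 1

theorem isClosedMap_snd_affine [QuasiCompact f]
    (H : ∀ n : ℕ, IsClosedMap (pullback.snd f (str (MvPolynomial (ULift.{u} (Fin n)) A))))
    {B : Type u} [CommRing B] [Algebra A B] : IsClosedMap (pullback.snd f (str B)) := by
  classical
  intro Z hZ
  rw [← isOpen_compl_iff, isOpen_iff_forall_mem_open]
  intro t ht
  have : CompactSpace X := QuasiCompact.compactSpace_of_compactSpace f
  let 𝒰 := X.affineCover.finiteSubcover
  have hψ : ∀ k, ∃ (C : Type u) (_ : CommRing C) (_ : Algebra A C) (e : Spec (.of C) ⟶ X)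
      (_ : IsOpenImmersion e), e ≫ f = str C ∧ Set.range e = Set.range (𝒰.f k) := by
    intro k
    have : IsAffine (𝒰.X k) := inferInstanceAs (IsAffine (X.affineCover.X _))
    let e : Spec Γ(𝒰.X k, ⊤) ⟶ X := (𝒰.X k).isoSpec.inv ≫ 𝒰.f k
    let ψ := Spec.preimage (e ≫ f)
    refine ⟨Γ(𝒰.X k, ⊤), inferInstance, ψ.hom.toAlgebra, e, inferInstance,
      (Spec.map_preimage _).symm, ?_⟩
    rw [Scheme.Hom.comp_base, TopCat.coe_comp, Set.range_comp,
      Set.range_eq_univ.mpr (𝒰.X k).isoSpec.inv.surjective, Set.image_univ]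
  choose C iC iCA e ie he hrange using hψ
  have hnot : ∀ (k) (Q : PrimeSpectrum (C k ⊗[A] B)), chart f (e k) (he k) B Q ∈ Z →
      Q.asIdeal.comap (Algebra.TensorProduct.includeRight : B →ₐ[A] C k ⊗[A] B) ≠ t.asIdeal := by
    intro k Q hQZ hQt
    refine ht ⟨_, hQZ, ?_⟩
    rw [← Scheme.Hom.comp_apply, chart_snd]
    exact PrimeSpectrum.ext hQt
  let J : ∀ k, Ideal (C k ⊗[A] B) := fun k ↦
    PrimeSpectrum.vanishingIdeal (chart f (e k) (he k) B ⁻¹' Z)
  have hJZ : ∀ k, PrimeSpectrum.zeroLocus (J k : Set (C k ⊗[A] B)) =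
      chart f (e k) (he k) B ⁻¹' Z := fun k ↦
    (PrimeSpectrum.zeroLocus_vanishingIdeal_eq_closure _).trans
      ((hZ.preimage (chart f (e k) (he k) B).continuous).closure_eq)
  have hF : ∀ k, _ := fun k ↦ exists_finset (J k) t.asIdeal (fun Q hQ hle ↦
    hnot k ⟨Q, hQ⟩ ((Set.ext_iff.mp (hJZ k) ⟨Q, hQ⟩).mp hle))
  choose F hF using hF
  let G := Finset.univ.biUnion F
  let A' := MvPolynomial (ULift.{u} (Fin G.card)) A
  let α : A' →ₐ[A] B := MvPolynomial.aeval fun i ↦ (G.equivFin.symm i.down : B)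
  have hG : ∀ k, (↑(F k) : Set B) ⊆ Set.range α := fun k b hb ↦
    ⟨MvPolynomial.X ⟨G.equivFin ⟨b, Finset.mem_biUnion.mpr ⟨k, Finset.mem_univ k, hb⟩⟩⟩,
      by
        show MvPolynomial.aeval _ (MvPolynomial.X _) = b
        rw [MvPolynomial.aeval_X]
        simp⟩
  let h := bcMap f α
  refine ⟨Spec.map (CommRingCat.ofHom α.toRingHom) ⁻¹'
    ((pullback.snd f (str A')) '' closure (h '' Z))ᶜ, ?_, ?_, ?_⟩
  · intro t₁ ht₁ ⟨z, hz, hzt⟩
    refine ht₁ ⟨h z, subset_closure ⟨z, hz, rfl⟩, ?_⟩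
    rw [← hzt, ← Scheme.Hom.comp_apply, ← Scheme.Hom.comp_apply,
      show h ≫ pullback.snd f (str A') = pullback.snd f (str B) ≫
        Spec.map (CommRingCat.ofHom α.toRingHom) from pullback.lift_snd _ _ _]
  · exact ((H G.card) _ isClosed_closure).isOpen_compl.preimage
      (Spec.map (CommRingCat.ofHom α.toRingHom)).continuous
  · rintro ⟨z, hz, hzt⟩
    obtain ⟨k, hk⟩ : ∃ k, pullback.fst f (str A') z ∈ Set.range (e k) := by
      refine ⟨𝒰.idx (pullback.fst f (str A') z), ?_⟩
      rw [hrange]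
      exact 𝒰.covers _
    obtain ⟨Q, rfl⟩ : z ∈ Set.range (chart f (e k) (he k) A') := by
      rw [range_chart]; exact hk
    let u : C k ⊗[A] A' →+* C k ⊗[A] B :=
      (Algebra.TensorProduct.map (AlgHom.id A (C k)) α).toRingHom
    have hsub : chart f (e k) (he k) A' ⁻¹' (h '' Z) ⊆
        PrimeSpectrum.comap u '' PrimeSpectrum.zeroLocus (J k : Set (C k ⊗[A] B)) := by
      rintro w ⟨z, hz, hzw⟩
      obtain ⟨v, rfl⟩ : z ∈ Set.range (chart f (e k) (he k) B) := by
        rw [range_chart]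
        have : pullback.fst f (str B) z = pullback.fst f (str A') (h z) := by
          rw [← Scheme.Hom.comp_apply h, show h ≫ pullback.fst f (str A') = pullback.fst f (str B) from
            (pullback.lift_fst _ _ _).trans (Category.comp_id _)]
        rw [Set.mem_preimage, this, hzw, ← Scheme.Hom.comp_apply, chart_fst]
        exact ⟨_, rfl⟩
      refine ⟨v, (Set.ext_iff.mp (hJZ k) v).mpr hz, ?_⟩
      refine (chart f (e k) (he k) A').isOpenEmbedding.injective ?_
      rw [← hzw, ← Scheme.Hom.comp_apply _ h, chart_bcMap, Scheme.Hom.comp_apply]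
      rfl
    have hQ : Q ∈ PrimeSpectrum.zeroLocus ((J k).comap u : Set (C k ⊗[A] A')) := by
      rw [← PrimeSpectrum.closure_image_comap_zeroLocus]
      exact closure_mono hsub
        ((chart f (e k) (he k) A').isOpenEmbedding.isOpenMap.preimage_closure_subset_closure_preimage
          hz)
    refine hF k A' α (hG k) Q.asIdeal Q.isPrime hQ ?_
    rw [← Scheme.Hom.comp_apply, chart_snd] at hzt
    exact congrArg PrimeSpectrum.asIdeal hzt

end Affine

theorem universallyClosed_affine {A : CommRingCat.{u}} {X : Scheme.{u}} (f : X ⟶ Spec A)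
    [QuasiCompact f]
    (H : ∀ n : ℕ, IsClosedMap (pullback.snd f (str (A := A) (MvPolynomial (ULift.{u} (Fin n)) A)))) :
    UniversallyClosed f := by
  refine ⟨fun X' T i₁ i₂ f' hsq' Z hZ ↦ ?_⟩
  have hsq := hsq'.flip
  rw [← isOpen_compl_iff, isOpen_iff_forall_mem_open]
  intro t ht
  obtain ⟨V, hV, htV, -⟩ := exists_isAffineOpen_mem_and_subset (X := T) (x := t) (U := ⊤) trivial
  let B := Γ(T, V)
  let ψ := Spec.preimage (hV.fromSpec ≫ i₂)
  let := ψ.hom.toAlgebra
  have hψ : str (A := A) B = hV.fromSpec ≫ i₂ := Spec.map_preimage _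
  let a : pullback f (str (A := A) B) ⟶ X' :=
    hsq.lift (pullback.fst _ _) (pullback.snd _ _ ≫ hV.fromSpec)
      (by rw [Category.assoc, ← hψ, pullback.condition])
  have hp : IsPullback a (pullback.snd f (str (A := A) B)) f' hV.fromSpec :=
    IsPullback.of_right (by rw [hsq.lift_fst, ← hψ]; exact IsPullback.of_hasPullback _ _)
      (hsq.lift_snd _ _ _) hsq
  obtain ⟨q, rfl⟩ : t ∈ Set.range hV.fromSpec := by rwa [hV.range_fromSpec]
  have hc := isClosedMap_snd_affine f H (B := B) _ (hZ.preimage a.continuous)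
  refine ⟨hV.fromSpec '' (pullback.snd f (str (A := A) B) '' (a ⁻¹' Z))ᶜ, ?_,
    hV.fromSpec.isOpenEmbedding.isOpenMap _ hc.isOpen_compl, ?_⟩
  · rintro _ ⟨q', hq', rfl⟩ ⟨z, hz, hzq⟩
    obtain ⟨w, rfl⟩ : z ∈ Set.range a := by
      rw [← hp.isoPullback_hom_fst, Scheme.Hom.comp_base, TopCat.coe_comp, Set.range_comp,
        Set.range_eq_univ.mpr hp.isoPullback.hom.surjective, Set.image_univ,
        Scheme.Pullback.range_fst]
      exact ⟨q', hzq.symm⟩
    refine hq' ⟨w, hz, hV.fromSpec.isOpenEmbedding.injective ?_⟩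
    rw [← hzq, ← Scheme.Hom.comp_apply, ← Scheme.Hom.comp_apply, hp.w]
  · refine ⟨q, ?_, rfl⟩
    rintro ⟨w, hw, hwq⟩
    refine ht ⟨a w, hw, ?_⟩
    rw [← hwq, ← Scheme.Hom.comp_apply, ← Scheme.Hom.comp_apply, hp.w]

theorem universallyClosed_pullback_snd {X S : Scheme.{u}} {R : CommRingCat.{u}} (f : X ⟶ S)
    [QuasiCompact f] (e : Spec R ⟶ S) [IsOpenImmersion e]
    (H : ∀ n : ℕ, IsClosedMap (pullback.snd f (𝔸(ULift.{u} (Fin n); S) ↘ S)).base) :
    UniversallyClosed (pullback.snd f e) := by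
  have : QuasiCompact (pullback.snd f e) := MorphismProperty.pullback_snd _ _ ‹_›
  refine universallyClosed_affine _ fun n ↦ ?_
  let N := ULift.{u} (Fin n)
  let f₀ := pullback.snd f e
  have h1 : IsPullback (pullback.fst f e) f₀ f e := IsPullback.of_hasPullback f e
  -- over the affine space of the affine piece
  let π := 𝔸(N; Spec R) ↘ Spec R
  have h2 := (IsPullback.of_hasPullback f₀ π).paste_horiz h1
  have h3 : IsPullback (pullback.fst f (𝔸(N; S) ↘ S)) (pullback.snd f (𝔸(N; S) ↘ S)) f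
      (𝔸(N; S) ↘ S) := IsPullback.of_hasPullback _ _
  have hm : π ≫ e = AffineSpace.map N e ≫ (𝔸(N; S) ↘ S) := (AffineSpace.map_over e).symm
  have h4 := IsPullback.of_right (h₁₁ := h3.lift (pullback.fst f₀ π ≫ pullback.fst f e)
      (pullback.snd f₀ π ≫ AffineSpace.map N e) (by
        rw [Category.assoc (pullback.snd f₀ π), ← hm, h2.w]))
    (v₁₁ := pullback.snd f₀ π) (h₂₁ := AffineSpace.map N e)
    (by rw [h3.lift_fst]; exact hm ▸ h2) (h3.lift_snd _ _ _) h3
  have : IsOpenImmersion (AffineSpace.map N e) :=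
    MorphismProperty.of_isPullback (AffineSpace.isPullback_map e).flip inferInstance
  have hc := isClosedMap_of_isPullback h4 (H n)
  let σ := AffineSpace.SpecIso N R
  have hstr : σ.inv ≫ π = str (A := R) (MvPolynomial N R) := AffineSpace.SpecIso_inv_over R
  let m : pullback f₀ (str (A := R) (MvPolynomial N R)) ⟶ pullback f₀ π :=
    pullback.map _ _ _ _ (𝟙 _) σ.inv (𝟙 _) (by simp) (by rw [Category.comp_id, hstr])
  have hs : pullback.snd f₀ (str (A := R) (MvPolynomial N R)) =
      m ≫ pullback.snd f₀ π ≫ σ.hom := by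
    rw [← Category.assoc, show m ≫ pullback.snd f₀ π = pullback.snd f₀ _ ≫ σ.inv from
      pullback.lift_snd _ _ _, Category.assoc, σ.inv_hom_id, Category.comp_id]
  show IsClosedMap (pullback.snd f₀ (str (A := R) (MvPolynomial N R)))
  rw [hs]
  exact σ.hom.homeomorph.isClosedMap.comp (hc.comp m.homeomorph.isClosedMap)

theorem universallyClosed_of_affineSpace {X S : Scheme.{u}} (f : X ⟶ S) [QuasiCompact f]
    (H : ∀ n : ℕ, IsClosedMap (pullback.snd f (𝔸(ULift.{u} (Fin n); S) ↘ S)).base) :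
    UniversallyClosed f := by
  rw [IsZariskiLocalAtTarget.iff_of_openCover (P := @UniversallyClosed) S.affineCover]
  intro i
  exact @universallyClosed_pullback_snd _ _ _ f _ (S.affineCover.f i) (S.affineCover.map_prop i) H

end Groth.Agent.UCLib
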